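import Cfsg.Agent.Lib.Helper57.TCW.Basic

/-!
# From a checked certificate to the order of a two-generator presented group
-/

set_option autoImplicit false

namespace Cfsg.Agent.Lib.Helper57.TCW

open Cfsg.Agent.Lib.Helper28.TC Cfsg.Agent.Lib.Helper28.TC2

namespace Data

variable (D : Data) (hD : D.Valid)
include hD

theorem permP_spec (i : ℕ) (hi : i < D.n) :
    (∀ x, D.tf x i < D.n ∧ D.tf (binv x) (D.tf x i) = i) ∧ ∀ w ∈ D.relW, act D.tf w i = i := by
  have h := hD.permP_all i hi
  unfold permP at h
  rw [band_eq_true] at h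
  exact ⟨permRowOK2_spec D.tf binv D.n letters mem_letters i h.1,
    relRowOK_spec D.tf D.relW i h.2⟩

/-- the permutation table -/
noncomputable def T : PermTable2 L4 binv D.n where
  tf := D.tf
  bound x i hi := ((permP_spec D hD i hi).1 x).1
  invl x i hi := ((permP_spec D hD i hi).1 x).2
  binv_binv := binv_binv

theorem perm_lval (x : L4) : lval (fun a => (T D hD).perm (emb a)) x = (T D hD).perm x := by
  cases x
  · rfl
  · exact ((T D hD).perm_binv L4.a).symm
  · rfl
  · exact ((T D hD).perm_binv L4.b).symm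

theorem hrel : ∀ r ∈ relSet D.relW, FreeGroup.lift (fun a => (T D hD).perm (emb a)) r = 1 := by
  rintro r ⟨w, hw, rfl⟩
  rw [lift_wordF]
  have : wordVal (fun a => (T D hD).perm (emb a)) w = wval (T D hD).perm w := by
    unfold wordVal
    congr 1
    funext x
    exact perm_lval D hD x
  rw [this, (T D hD).wval_perm]
  exact (T D hD).wordPerm_eq_one w (fun i hi => (permP_spec D hD i hi).2 w hw)

/-- the permutation representation on the cosets -/
noncomputable def rho : PresentedGroup (relSet D.relW) →* Equiv.Perm (Fin D.n) :=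
  PresentedGroup.toGroup (hrel D hD)

theorem rho_of (i : Fin 2) (k : Fin D.n) :
    ((rho D hD (PresentedGroup.of i)) k).val = D.tf (emb i) k.val := by
  unfold rho
  rw [PresentedGroup.toGroup.of]
  rfl

omit hD in
/-- the values of the letters in the presented group -/
noncomputable def val : L4 → PresentedGroup (relSet D.relW) :=
  lval (fun i => PresentedGroup.of i)

omit hD in
theorem hval (a : Fin 2) : val D (emb a) = PresentedGroup.of a := lval_emb _ a

omit hD in
theorem hbv (y : L4) : val D (binv y) = (val D y)⁻¹ := lval_binv _ y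

omit hD in
theorem wval_val (w : List L4) : wval (val D) w = PresentedGroup.mk (relSet D.relW) (wordF w) := by
  have h1 : wval (val D) w = wordVal (fun i => PresentedGroup.of i) w := rfl
  rw [h1]
  have h2 : PresentedGroup.mk (relSet D.relW) (wordF w) =
      wordVal (fun i => PresentedGroup.mk (relSet D.relW) (FreeGroup.of i)) w := by
    rw [wordF, map_wordVal]
  rw [h2]
  rfl

theorem cycAt_prop (ci : ℕ) : (D.cycAt ci).2.1 = (D.cycAt ci).1.reverse ∧
    (D.cycAt ci).2.2.2 = (D.cycAt ci).1.length ∧ (D.cycAt ci).2.2.1 = (D.cycAt ci).1.map binv ∧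
    ((D.cycAt ci).1 ∈ D.relW ∨ (D.cycAt ci).1 = []) := by
  unfold cycAt
  refine nthD_prop D.cyc ([], [], [], 0)
    (fun c => c.2.1 = c.1.reverse ∧ c.2.2.2 = c.1.length ∧ c.2.2.1 = c.1.map binv ∧
      (c.1 ∈ D.relW ∨ c.1 = [])) ⟨rfl, rfl, rfl, Or.inr rfl⟩ ?_ ci
  intro c hc
  obtain ⟨h1, h2, h3, h4⟩ := hD.cyc_ok c hc
  exact ⟨h1, h2, h3, Or.inl h4⟩

theorem cyc_ok : CycOK2 D.C binv D.cycI := by
  intro ci
  obtain ⟨h1, h2, h3, _⟩ := cycAt_prop D hD ci
  rw [hD.cycW, hD.cycR, hD.cycL]
  exact ⟨h1, h2, h3⟩

theorem hcycR : ∀ ci, D.C.cycA ci = false → wval (val D) (D.C.cycW ci) = 1 := by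
  intro ci _
  rw [hD.cycW, wval_val]
  obtain ⟨_, _, _, h4⟩ := cycAt_prop D hD ci
  rcases h4 with h4 | h4
  · exact PresentedGroup.one_of_mem ⟨_, h4, rfl⟩
  · rw [h4]
    simp [wordF, wordVal_nil]

theorem hcycS : ∀ ci, D.C.cycA ci = true →
    wval (val D) (D.C.cycW ci) ∈ subH (relSet D.relW) (∅ : Set (FreeGroup (Fin 2))) := by
  intro ci h
  rw [hD.cycA] at h
  cases h

theorem hE : ∀ x u, checkE2 D.C binv D.cycI x u = true := by
  intro x u
  by_cases hu : u < D.Npad
  · have h := hD.factP_all u hu
    unfold factP at h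
    rw [band_eq_true] at h
    exact allList_spec _ letters h.1 x (mem_letters x)
  · unfold checkE2
    rw [hD.ent_zero x u (Nat.not_lt.1 hu)]
    rfl

theorem hA : ∀ k, checkA' D.C binv D.cycI k = true := by
  intro k
  by_cases hk : k < D.Npad
  · have h := hD.factP_all k hk
    unfold factP at h
    rw [band_eq_true, band_eq_true] at h
    exact h.2.1
  · unfold checkA'
    rw [hD.al_zero k (Nat.not_lt.1 hk)]
    rfl

theorem htree : ∀ k, 0 < k → k < D.N →
    D.C.par k < k ∧ (T D hD).tf (D.C.gn k) (D.fin (D.C.par k)) = D.fin k := by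
  intro k hk hlt
  have h := hD.factP_all k (lt_of_lt_of_le hlt hD.N_le)
  unfold factP at h
  rw [band_eq_true, band_eq_true] at h
  exact treeRowOK_spec D.C D.tf D.fin k (guard_spec D.N _ k h.2.2 hlt) hk

theorem hclosed : ∀ i, i < D.n → ∀ x, D.rowOf i < D.N ∧ D.fin (D.rowOf i) = i ∧
    D.C.ent x (D.rowOf i) ≠ 0 ∧
    norm D.C D.R (D.C.ent x (D.rowOf i) - 1) = D.rowOf ((T D hD).tf x i) := by
  intro i hi x
  exact closedRowOK_spec D.C D.tf D.fin D.rowOf D.N D.R letters mem_letters i
    (hD.closedP_all i hi) x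

theorem hsub : ∀ s ∈ (∅ : Set (FreeGroup (Fin 2))),
    FreeGroup.lift (fun a => (T D hD).perm (emb a)) s ⟨0, hD.n_pos⟩ = ⟨0, hD.n_pos⟩ := by
  intro s hs
  cases hs

omit hD in
theorem subH_empty : subH (relSet D.relW) (∅ : Set (FreeGroup (Fin 2))) = ⊥ := by
  unfold subH
  rw [Subgroup.closure_empty, Subgroup.map_bot]

/-- The coset enumeration over the trivial subgroup: an equivariant bijection between the
presented group and `Fin n`. -/
theorem exists_equiv :
    ∃ e : PresentedGroup (relSet D.relW) ≃ Fin D.n,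
      e 1 = ⟨0, hD.n_pos⟩ ∧
      ∀ g q : PresentedGroup (relSet D.relW), e (g * q) = (rho D hD g) (e q) := by
  obtain ⟨e, he1, he⟩ := cosetEquiv_of_cert2 (rels := relSet D.relW) (S := ∅) emb binv hcover
    hD.n_pos (T D hD) (hrel D hD) (hsub D hD) (val D) (hval D) (hbv D) D.C D.cycI (cyc_ok D hD)
    (hcycR D hD) (hcycS D hD) (hE D hD) (hA D hD) D.N D.fin hD.fin_zero (htree D hD) D.R D.rowOf
    hD.rowOf_zero (hclosed D hD)
  let f : PresentedGroup (relSet D.relW) → Fin D.n := fun g =>
    e (g : PresentedGroup (relSet D.relW) ⧸ subH (relSet D.relW) ∅)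
  have hf : Function.Bijective f := by
    constructor
    · intro g g' h
      have h' := e.injective h
      rw [QuotientGroup.eq, subH_empty, Subgroup.mem_bot] at h'
      exact (inv_mul_eq_one.1 h')
    · intro k
      obtain ⟨q, hq⟩ := e.surjective k
      obtain ⟨g, rfl⟩ := QuotientGroup.mk_surjective q
      exact ⟨g, hq⟩
  refine ⟨Equiv.ofBijective f hf, he1, ?_⟩
  intro g q
  show e ((g * q : PresentedGroup (relSet D.relW)) :
    PresentedGroup (relSet D.relW) ⧸ subH (relSet D.relW) ∅) = _
  exact he g (q : PresentedGroup (relSet D.relW) ⧸ subH (relSet D.relW) ∅)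

theorem finite : Finite (PresentedGroup (relSet D.relW)) := by
  obtain ⟨e, _, _⟩ := exists_equiv D hD
  exact Finite.of_equiv _ e.symm

theorem card_eq : Nat.card (PresentedGroup (relSet D.relW)) = D.n := by
  obtain ⟨e, _, _⟩ := exists_equiv D hD
  rw [Nat.card_congr e, Nat.card_fin]

/-- Injectivity criterion: a homomorphism to a group acting on a set, such that the images of the
generators move an injective family of points as the coset table says, is injective. -/
theorem injective_of_points {K : Type*} [Group K] {V : Type*} [MulAction K V]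
    (φ : PresentedGroup (relSet D.relW) →* K) (vec : ℕ → V)
    (hinj : ∀ i j, i < D.n → j < D.n → vec i = vec j → i = j)
    (hact : ∀ (a : Fin 2) (i : ℕ), i < D.n →
      φ (PresentedGroup.of a) • vec i = vec (D.tf (emb a) i)) :
    Function.Injective φ := by
  obtain ⟨e, he1, he⟩ := exists_equiv D hD
  have key : ∀ g : PresentedGroup (relSet D.relW), ∀ k : Fin D.n,
      φ g • vec k.val = vec ((rho D hD g) k).val := by
    intro g
    induction g using PresentedGroup.induction_on with
    | _ w =>
      induction w using FreeGroup.induction_on with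
      | C1 => intro k; simp
      | of a =>
        intro k
        show φ (PresentedGroup.of a) • vec k.val = vec ((rho D hD (PresentedGroup.of a)) k).val
        rw [rho_of]
        exact hact a k.val k.2
      | inv_of a ih =>
        intro k
        rw [map_inv (PresentedGroup.mk (relSet D.relW)), map_inv φ, map_inv (rho D hD)]
        have h2 := ih (((rho D hD) (PresentedGroup.mk (relSet D.relW) (FreeGroup.of a)))⁻¹ k)
        rw [show ((rho D hD) (PresentedGroup.mk (relSet D.relW) (FreeGroup.of a)))
          (((rho D hD) (PresentedGroup.mk (relSet D.relW) (FreeGroup.of a)))⁻¹ k) = k from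
          Equiv.apply_symm_apply _ k] at h2
        rw [← h2, inv_smul_smul]
      | mul x y ihx ihy =>
        intro k
        rw [map_mul (PresentedGroup.mk (relSet D.relW)), map_mul φ, map_mul (rho D hD), mul_smul,
          ihy k, ihx, Equiv.Perm.mul_apply]
  rw [injective_iff_map_eq_one]
  intro g hg
  have h1 := key g (e 1)
  rw [hg, one_smul] at h1
  have h2 : (e 1).val = ((rho D hD g) (e 1)).val :=
    hinj _ _ (e 1).2 ((rho D hD g) (e 1)).2 h1
  have h3 : e (g * 1) = e 1 := by
    rw [he g 1]
    exact (Fin.ext h2).symm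
  have := e.injective h3
  simpa using this

end Data

end Cfsg.Agent.Lib.Helper57.TCW
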