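import Cfsg.Agent.Lib.Helper28.TC2Check

/-!
# Two-generator presentations: wrapper around the verified coset-enumeration certificates

Letters `a, a⁻¹, b, b⁻¹`; relators are given by words.  From a checked certificate (over the trivial
subgroup) we get an equivariant bijection between the presented group and `Fin n`.
-/

set_option autoImplicit false

namespace Cfsg.Agent.Lib.Helper57.TCW

open Cfsg.Agent.Lib.Helper28.TC Cfsg.Agent.Lib.Helper28.TC2

/-- the four letters -/
inductive L4 : Type
  | a | ai | b | bi
  deriving DecidableEq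

/-- formal inversion of letters -/
noncomputable def binv (x : L4) : L4 := L4.rec L4.ai L4.a L4.bi L4.b x

/-- a generator as a letter -/
def emb (i : Fin 2) : L4 := if i = 0 then L4.a else L4.b

/-- all letters -/
def letters : List L4 := [L4.a, L4.ai, L4.b, L4.bi]

theorem mem_letters (y : L4) : y ∈ letters := by cases y <;> decide

theorem binv_binv (y : L4) : binv (binv y) = y := by cases y <;> rfl

theorem hcover (y : L4) : ∃ a, y = emb a ∨ y = binv (emb a) := by
  cases y
  · exact ⟨0, Or.inl rfl⟩
  · exact ⟨0, Or.inr rfl⟩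
  · exact ⟨1, Or.inl rfl⟩
  · exact ⟨1, Or.inr rfl⟩

/-- decode a letter -/
noncomputable def ltrOf (c : ℕ) : L4 :=
  Nat.rec (motive := fun _ => L4) L4.a (fun c _ => Nat.rec (motive := fun _ => L4) L4.ai
    (fun c _ => Nat.rec (motive := fun _ => L4) L4.b (fun _ _ => L4.bi) c) c) c

section lval

variable {K : Type*} [Group K]

/-- the value of a letter, given the values of the two generators -/
def lval (f : Fin 2 → K) : L4 → K
  | L4.a => f 0
  | L4.ai => (f 0)⁻¹
  | L4.b => f 1
  | L4.bi => (f 1)⁻¹

theorem lval_emb (f : Fin 2 → K) (i : Fin 2) : lval f (emb i) = f i := by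
  fin_cases i <;> rfl

theorem lval_binv (f : Fin 2 → K) (y : L4) : lval f (binv y) = (lval f y)⁻¹ := by
  cases y <;> simp [lval, binv]

/-- the value of a word -/
def wordVal (f : Fin 2 → K) (w : List L4) : K := wval (lval f) w

theorem wordVal_nil (f : Fin 2 → K) : wordVal f [] = 1 := rfl

theorem wordVal_cons (f : Fin 2 → K) (x : L4) (w : List L4) :
    wordVal f (x :: w) = lval f x * wordVal f w := wval_cons _ _ _

theorem wordVal_append (f : Fin 2 → K) (w₁ w₂ : List L4) :
    wordVal f (w₁ ++ w₂) = wordVal f w₁ * wordVal f w₂ := wval_append _ _ _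

theorem map_lval {K' : Type*} [Group K'] (g : K →* K') (f : Fin 2 → K) (y : L4) :
    g (lval f y) = lval (fun i => g (f i)) y := by
  cases y <;> simp [lval]

theorem map_wordVal {K' : Type*} [Group K'] (g : K →* K') (f : Fin 2 → K) (w : List L4) :
    g (wordVal f w) = wordVal (fun i => g (f i)) w := by
  induction w with
  | nil => simp [wordVal_nil]
  | cons x w ih => rw [wordVal_cons, wordVal_cons, map_mul, ih, map_lval]

end lval

/-- the free group element of a word -/
def wordF (w : List L4) : FreeGroup (Fin 2) := wordVal FreeGroup.of w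

theorem lift_wordF {K : Type*} [Group K] (f : Fin 2 → K) (w : List L4) :
    FreeGroup.lift f (wordF w) = wordVal f w := by
  rw [wordF, map_wordVal]
  congr 1
  funext i
  simp

/-- the relator set of a list of words -/
def relSet (relW : List (List L4)) : Set (FreeGroup (Fin 2)) := {r | ∃ w ∈ relW, r = wordF w}

/-- the relator set of two words, as a finite set -/
def relFin (r₁ r₂ : List L4) : Finset (FreeGroup (Fin 2)) := {wordF r₁, wordF r₂}

theorem relFin_coe (r₁ r₂ : List L4) :
    ((relFin r₁ r₂ : Finset (FreeGroup (Fin 2))) : Set (FreeGroup (Fin 2))) = relSet [r₁, r₂] := by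
  ext r
  simp [relFin, relSet]

theorem relFin_card (r₁ r₂ : List L4) : (relFin r₁ r₂).card ≤ 2 := Finset.card_insert_le _ _

/-- The hypotheses of the main theorem: all the data of a certificate, with the Boolean checks. -/
structure Data where
  /-- the relator words -/
  relW : List (List L4)
  /-- the cycles: relator word, reversed word, letterwise inverted word, length -/
  cyc : List (List L4 × List L4 × List L4 × ℕ)
  /-- number of cosets -/
  n : ℕ
  /-- number of rows -/
  N : ℕ
  /-- padded number of rows (the fact checks run to here) -/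
  Npad : ℕ
  /-- final rank -/
  R : ℕ
  /-- the certificate -/
  C : Cert L4
  /-- the final coset table -/
  tf : L4 → ℕ → ℕ
  /-- the final coset of a row -/
  fin : ℕ → ℕ
  /-- the designated row of a final coset -/
  rowOf : ℕ → ℕ

namespace Data

variable (D : Data)

/-- cycle number `ci` (empty beyond the last) -/
def cycAt (ci : ℕ) : List L4 × List L4 × List L4 × ℕ := nthD D.cyc ci ([], [], [], 0)

/-- letterwise inverted cycle words -/
def cycI (ci : ℕ) : List L4 := (D.cycAt ci).2.2.1

/-- row check of the permutation representation -/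
noncomputable def permP (i : ℕ) : Bool :=
  band (permRowOK2 D.tf binv D.n letters i) (relRowOK D.tf D.relW i)

/-- row check of the facts -/
noncomputable def factP (u : ℕ) : Bool :=
  band (allList (fun x => checkE2 D.C binv D.cycI x u) letters)
    (band (checkA' D.C binv D.cycI u) (guard D.N (treeRowOK D.C D.tf D.fin) u))

/-- row check of the closure -/
noncomputable def closedP (i : ℕ) : Bool := closedRowOK D.C D.tf D.fin D.rowOf D.N D.R letters i

/-- the static conditions -/
structure Valid : Prop where
  n_pos : 0 < D.n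
  N_le : D.N ≤ D.Npad
  cycW : ∀ ci, D.C.cycW ci = (D.cycAt ci).1
  cycR : ∀ ci, D.C.cycR ci = (D.cycAt ci).2.1
  cycL : ∀ ci, D.C.cycL ci = (D.cycAt ci).2.2.2
  cycA : ∀ ci, D.C.cycA ci = false
  cyc_ok : ∀ c ∈ D.cyc, c.2.1 = c.1.reverse ∧ c.2.2.2 = c.1.length ∧ c.2.2.1 = c.1.map binv ∧
    c.1 ∈ D.relW
  ent_zero : ∀ x u, D.Npad ≤ u → D.C.ent x u = 0
  al_zero : ∀ k, D.Npad ≤ k → D.C.al k = 0
  fin_zero : D.fin 0 = 0
  rowOf_zero : D.rowOf 0 = 0
  permP_all : ∀ i, i < D.n → D.permP i = true
  factP_all : ∀ u, u < D.Npad → D.factP u = true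
  closedP_all : ∀ i, i < D.n → D.closedP i = true

end Data

end Cfsg.Agent.Lib.Helper57.TCW
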